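import Cfsg.Agent.H2.U6E.Basic
import Cfsg.Agent.H50.U6C.Model

/-!
An involution centraliser of shape `2^(1+8).U₄(2).2` read on the natural module: an element over a
semilinear involution with singular fixed space which centralises the preimage of that space and
has square in `⟨z⟩`.
-/

set_option autoImplicit false
set_option maxRecDepth 100000
set_option linter.unusedSectionVars false

namespace H39.U6E

open H38.U6C H50.U6C H2.U6E

/-! ### the model -/

/-- The vectors with one bit. -/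
def bvec (i : Fin 8) : V := ⟨2 ^ i.val % 256, Nat.mod_lt _ (by norm_num)⟩

theorem bvec_span : ∀ v : V,
    ((List.finRange 8).filter fun i : Fin 8 => v.val.testBit i.val).foldr
      (fun i a => vadd (bvec i) a) 0 = v := by decide +kernel

theorem forall_of_bvec (P : V → Prop) (h0 : P 0) (hadd : ∀ a b, P a → P b → P (vadd a b))
    (hb : ∀ i, P (bvec i)) (v : V) : P v := by
  rw [← bvec_span v]
  induction ((List.finRange 8).filter fun i : Fin 8 => v.val.testBit i.val) with
  | nil => exact h0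
  | cons i l ih => exact hadd _ _ (hb i) ih

theorem pol_nondeg_bvec : ∀ a : V, (∀ i : Fin 8, pol a (bvec i) = false) → a = 0 := by
  decide +kernel

theorem two_le_xor : ∀ x < 4, ∀ y < 4,
    decide (2 ≤ x ^^^ y) = xor (decide (2 ≤ x)) (decide (2 ≤ y)) := by decide

theorem pol_vadd_right (a b c : V) : pol a (vadd b c) = xor (pol a b) (pol a c) := by
  simp only [pol, herm_vadd_right]
  exact two_le_xor _ (herm_lt a b) _ (herm_lt a c)

theorem pol_vadd_left (a b c : V) : pol (vadd a b) c = xor (pol a c) (pol b c) := by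
  simp only [pol, herm_vadd_left]
  exact two_le_xor _ (herm_lt a c) _ (herm_lt b c)

/-- Every additive functional is given by the form. -/
theorem exists_dual (χ : V → Bool) (h : ∀ a b, χ (vadd a b) = xor (χ a) (χ b)) :
    ∃ a, ∀ v, pol a v = χ v := by
  have hinj : Function.Injective fun (a : V) (i : Fin 8) => pol a (bvec i) := by
    intro a b e
    have e0 : vadd a b = 0 := pol_nondeg_bvec _ fun i => by
      rw [pol_vadd_left, show pol a (bvec i) = pol b (bvec i) from congrFun e i, Bool.xor_self]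
    calc a = vadd (vadd a b) b := by rw [vadd_assoc, vadd_self, vadd_zero']
      _ = b := by rw [e0, vadd_comm, vadd_zero']
  obtain ⟨a, ha⟩ := ((Fintype.bijective_iff_injective_and_card _).2
    ⟨hinj, by simp⟩).surjective fun i => χ (bvec i)
  refine ⟨a, fun v => forall_of_bvec (fun v => pol a v = χ v) ?_ ?_ (fun i => congrFun ha i) v⟩
  · have h0 := h 0 0
    rw [vadd_self, Bool.xor_self] at h0
    rw [h0]
    have := pol_vadd_right a 0 0
    rwa [vadd_self, Bool.xor_self] at this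
  · intro b c hb hc
    rw [pol_vadd_right, h, hb, hc]

theorem anti_zero {σ : Equiv.Perm V} (hσ : IsAnti σ) : σ 0 = 0 := by
  have := hσ.add 0 0
  rwa [vadd_self, vadd_self] at this

theorem lin_zero {σ : Equiv.Perm V} (hσ : IsLin σ) : σ 0 = 0 := by
  have := hσ.add 0 0
  rwa [vadd_self, vadd_self] at this

theorem lin_smul_two {f : Equiv.Perm V} (hf : IsLin f) (a : V) :
    f (smul4 2 a) = smul4 2 (f a) := hf.smul 2 a

theorem anti_smul_two {f : Equiv.Perm V} (hf : IsAnti f) (a : V) :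
    f (smul4 2 a) = smul4 3 (f a) := hf.smul 2 a

theorem smul_three (a : V) : smul4 3 a = vadd a (smul4 2 a) := by
  rw [show (3 : ℕ) = 1 ^^^ 2 by decide, smul4_xor (by norm_num) (by norm_num), smul4_one]

theorem smul_two_three (a : V) : smul4 3 (smul4 2 a) = a := by
  rw [smul4_smul4 (by norm_num) (by norm_num), show fmul 3 2 = 1 by decide, smul4_one]

theorem smul_three_two (a : V) : smul4 2 (smul4 3 a) = a := by
  rw [smul4_smul4 (by norm_num) (by norm_num), show fmul 2 3 = 1 by decide, smul4_one]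

/-- Not both linear and semilinear. -/
theorem not_lin_anti {f : Equiv.Perm V} (h1 : IsLin f) (h2 : IsAnti f) : False := by
  have h := (lin_smul_two h1 (f.symm 1)).symm.trans (anti_smul_two h2 (f.symm 1))
  rw [Equiv.apply_symm_apply] at h
  exact absurd h (by decide +kernel)

theorem pol_anti {σ : Equiv.Perm V} (hσ : IsAnti σ) (a b : V) : pol (σ a) (σ b) = pol a b := by
  simp only [pol, hσ.herm_eq]
  exact (show ∀ x < 4, decide (2 ≤ fconj x) = decide (2 ≤ x) by decide) _ (herm_lt a b)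

/-- The projection on the fixed vectors. -/
def proj (σ : Equiv.Perm V) (v : V) : V := vadd v (smul4 2 (vadd v (σ v)))

section Sigma

variable {σ : Equiv.Perm V} (hσ : IsAnti σ) (hi : σ * σ = 1)
include hσ hi

theorem sig_sig (v : V) : σ (σ v) = v := DFunLike.congr_fun hi v

theorem sum_fixed (v : V) : σ (vadd v (σ v)) = vadd v (σ v) := by
  rw [hσ.add, sig_sig hσ hi, vadd_comm]

theorem proj_fixed (v : V) : σ (proj σ v) = proj σ v := by
  unfold proj
  rw [hσ.add, anti_smul_two hσ, sum_fixed hσ hi, smul_three, ← vadd_assoc, vadd_comm v (σ v),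
    ← vadd_assoc (σ v), vadd_self, vadd_comm 0 v, vadd_zero']

theorem proj_split (v : V) : vadd (proj σ v) (smul4 2 (vadd v (σ v))) = v := by
  unfold proj
  rw [vadd_assoc, vadd_self, vadd_zero']

omit hi in
theorem proj_add (a b : V) : proj σ (vadd a b) = vadd (proj σ a) (proj σ b) := by
  unfold proj
  rw [hσ.add, vadd_vadd_vadd a b (σ a) (σ b), smul4_vadd (by norm_num), vadd_vadd_vadd]

omit hi in
theorem proj_of_fixed {v : V} (hv : σ v = v) : proj σ v = v := by
  unfold proj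
  rw [hv, vadd_self, show smul4 2 (0 : V) = 0 by decide, vadd_zero']

/-- What is orthogonal to all fixed vectors is fixed. -/
theorem fixed_of_perp {a : V} (h : ∀ b, σ b = b → pol a b = false) : σ a = a := by
  have key : ∀ v, pol (vadd a (σ a)) v = false := by
    intro v
    have e : pol (σ a) v = pol a (σ v) := by
      have := pol_anti hσ a (σ v)
      rwa [sig_sig hσ hi] at this
    rw [pol_vadd_left, e, ← pol_vadd_right]
    exact h _ (sum_fixed hσ hi v)
  have := pol_nondeg_bvec _ fun i => key (bvec i)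
  calc σ a = vadd (vadd a (σ a)) a := by rw [vadd_comm a (σ a), vadd_assoc, vadd_self, vadd_zero']
    _ = a := by rw [this, vadd_comm, vadd_zero']

/-- A linear map fixing the fixed vectors is the identity. -/
theorem lin_eq_one {f : Equiv.Perm V} (hf : IsLin f) (h : ∀ b, σ b = b → f b = b) : f = 1 := by
  refine Equiv.ext fun v => ?_
  conv_lhs => rw [← proj_split hσ hi v]
  rw [hf.add, lin_smul_two hf, h _ (proj_fixed hσ hi v), h _ (sum_fixed hσ hi v),
    proj_split hσ hi v]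
  rfl

/-- A semilinear map fixing the fixed vectors is the involution. -/
theorem anti_eq_sig {f : Equiv.Perm V} (hf : IsAnti f) (h : ∀ b, σ b = b → f b = b) : f = σ := by
  refine Equiv.ext fun v => ?_
  conv_lhs => rw [← proj_split hσ hi v]
  conv_rhs => rw [← proj_split hσ hi v]
  rw [hf.add, anti_smul_two hf, h _ (proj_fixed hσ hi v), h _ (sum_fixed hσ hi v), hσ.add,
    anti_smul_two hσ, proj_fixed hσ hi v, sum_fixed hσ hi v]

end Sigma

/-! ### the centraliser -/

variable {G : Type*} [Group G] [Finite G] {z : G} {J H₀ : Subgroup G} {φ : G → V}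
  {ρ : ↥(Subgroup.centralizer ({z} : Set G)) →* Equiv.Perm V}

theorem J_cent (h : Ctx z J H₀ φ ρ) : J ≤ Subgroup.centralizer ({z} : Set G) :=
  h.J_le.trans h.le_cent

theorem z_comm {g : G} (hg : g ∈ Subgroup.centralizer ({z} : Set G)) : Commute g z :=
  Subgroup.mem_centralizer_singleton_iff.1 hg

theorem mem_cent {g : G} (hg : Commute g z) : g ∈ Subgroup.centralizer ({z} : Set G) :=
  Subgroup.mem_centralizer_singleton_iff.2 hg

theorem φ_one (h : Ctx z J H₀ φ ρ) : φ 1 = 0 := (h.φ_ker 1 J.one_mem).2 (Or.inl rfl)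

theorem φ_z (h : Ctx z J H₀ φ ρ) : φ z = 0 := (h.φ_ker z h.z_mem).2 (Or.inr rfl)

theorem φ_inv (h : Ctx z J H₀ φ ρ) {a : G} (ha : a ∈ J) : φ a⁻¹ = φ a := by
  have e := h.φ_mul a ha a⁻¹ (inv_mem ha)
  rw [mul_inv_cancel, φ_one h] at e
  have e2 := congrArg (vadd (φ a)) e
  rwa [← vadd_assoc, vadd_self, vadd_comm 0 (φ a⁻¹), vadd_zero', vadd_zero', eq_comm] at e2

theorem φ_eq (h : Ctx z J H₀ φ ρ) {a b : G} (ha : a ∈ J) (hb : b ∈ J) (e : φ a = φ b) :
    a = b ∨ a = b * z := by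
  have e2 : φ (b⁻¹ * a) = 0 := by rw [h.φ_mul _ (inv_mem hb) _ ha, φ_inv h hb, e, vadd_self]
  rcases (h.φ_ker _ (mul_mem (inv_mem hb) ha)).1 e2 with h' | h'
  · exact Or.inl (inv_mul_eq_one.1 h').symm
  · exact Or.inr (inv_mul_eq_iff_eq_mul.1 h')

theorem mul_z_ne (h : Ctx z J H₀ φ ρ) (a : G) : a * z ≠ a := fun e =>
  h.ne_one (mul_eq_left.1 e)

theorem pol_of_commute (h : Ctx z J H₀ φ ρ) {a b : G} (ha : a ∈ J) (hb : b ∈ J)
    (hc : Commute a b) : pol (φ a) (φ b) = false := by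
  by_contra hp
  have e := h.φ_comm a ha b hb
  rw [Bool.not_eq_false] at hp
  rw [hp, if_pos rfl, hc.eq] at e
  exact mul_z_ne h _ e.symm

theorem lin_or_anti (h : Ctx z J H₀ φ ρ) (g : ↥(Subgroup.centralizer ({z} : Set G))) :
    IsLin (ρ g) ∨ IsAnti (ρ g) := by
  by_cases hg : (g : G) ∈ H₀
  · exact Or.inl (h.lin_of_mem g hg)
  · exact Or.inr (h.anti_of_not_mem g hg)

/-- The preimage in the core of the fixed vectors of `σ`. -/
def fixPre (h : Ctx z J H₀ φ ρ) {σ : Equiv.Perm V} (hσ : IsAnti σ) : Subgroup G where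
  carrier := {j | j ∈ J ∧ σ (φ j) = φ j}
  one_mem' := ⟨J.one_mem, by rw [φ_one h, anti_zero hσ]⟩
  mul_mem' := fun {a b} ha hb => ⟨mul_mem ha.1 hb.1, by
    rw [h.φ_mul a ha.1 b hb.1, hσ.add, ha.2, hb.2]⟩
  inv_mem' := fun {a} ha => ⟨inv_mem ha.1, by rw [φ_inv h ha.1, ha.2]⟩

theorem mem_fixPre {h : Ctx z J H₀ φ ρ} {σ : Equiv.Perm V} {hσ : IsAnti σ} {j : G} :
    j ∈ fixPre h hσ ↔ j ∈ J ∧ σ (φ j) = φ j := Iff.rfl

theorem z_mem_fixPre (h : Ctx z J H₀ φ ρ) {σ : Equiv.Perm V} (hσ : IsAnti σ) :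
    z ∈ fixPre h hσ := ⟨h.z_mem, by rw [φ_z h, anti_zero hσ]⟩

/-- An element over `σ` centralising the preimage of the fixed vectors, with square in `⟨z⟩`. -/
theorem exists_lift (h : Ctx z J H₀ φ ρ) {σ γ : Equiv.Perm V} (hp : OutPair σ γ)
    {t c : ↥(Subgroup.centralizer ({z} : Set G))} (ht : ρ t = σ) (hc : ρ c = γ) :
    ∃ t₁ : ↥(Subgroup.centralizer ({z} : Set G)), ρ t₁ = σ ∧
      (∀ j ∈ fixPre h hp.anti, Commute (t₁ : G) j) ∧
      ((t₁ : G) * t₁ = 1 ∨ (t₁ : G) * t₁ = z) := by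
  classical
  have hσ := hp.anti
  have hi := hp.invol
  set W := fixPre h hσ with hW
  -- the action of `t` on `W`
  have htw : ∀ j ∈ W, (t : G) * j * (t : G)⁻¹ = j ∨ (t : G) * j * (t : G)⁻¹ = j * z := by
    intro j hj
    refine φ_eq h (h.conj_mem t t.2 j hj.1) hj.1 ?_
    rw [h.ρ_φ t j hj.1, ht, hj.2]
  obtain ⟨sel, hsel⟩ : ∃ sel : V → G, ∀ v, sel v ∈ J ∧ φ (sel v) = v :=
    ⟨fun v => Classical.choose (h.φ_surj v), fun v => Classical.choose_spec (h.φ_surj v)⟩
  let ε : G → Bool := fun j => decide ((t : G) * j * (t : G)⁻¹ ≠ j)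
  have εz : ∀ j ∈ W, ε (j * z) = ε j := by
    intro j _
    have e : (t : G) * (j * z) * (t : G)⁻¹ = (t : G) * j * (t : G)⁻¹ * z := by
      rw [show (t : G) * (j * z) * (t : G)⁻¹ = (t : G) * j * (z * (t : G)⁻¹) by group,
        ((z_comm t.2).inv_left.symm).eq]
      group
    simp only [ε, e, ne_eq, mul_left_inj]
  have εmul : ∀ a ∈ W, ∀ b ∈ W, ε (a * b) = xor (ε a) (ε b) := by
    intro a ha b hb
    have e : (t : G) * (a * b) * (t : G)⁻¹ =
        ((t : G) * a * (t : G)⁻¹) * ((t : G) * b * (t : G)⁻¹) := by group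
    have hbz : Commute z b := (z_comm (J_cent h hb.1)).symm
    rcases htw a ha with ea | ea <;> rcases htw b hb with eb | eb <;>
      simp only [ε, e, ea, eb]
    · simp
    · simp [← mul_assoc, mul_z_ne h]
    · simp [show a * z * b = a * b * z by rw [mul_assoc, hbz.eq, ← mul_assoc], mul_z_ne h]
    · simp [show a * z * (b * z) = a * b by
        rw [mul_assoc, ← mul_assoc z b z, hbz.eq, mul_assoc b z z, h.sq, mul_one], mul_z_ne h]
  -- the functional
  let χ : V → Bool := fun v => ε (sel (proj σ v))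
  have hselW : ∀ v, sel (proj σ v) ∈ W := fun v =>
    ⟨(hsel _).1, by rw [(hsel _).2]; exact proj_fixed hσ hi v⟩
  have χeq : ∀ j ∈ W, χ (φ j) = ε j := by
    intro j hj
    have e : φ (sel (proj σ (φ j))) = φ j := by rw [(hsel _).2, proj_of_fixed hσ hj.2]
    rcases φ_eq h (hselW _).1 hj.1 e with e' | e'
    · simp only [χ, e']
    · simp only [χ, e']; exact εz j hj
  have χadd : ∀ a b, χ (vadd a b) = xor (χ a) (χ b) := by
    intro a b
    have hm : sel (proj σ a) * sel (proj σ b) ∈ W := mul_mem (hselW a) (hselW b)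
    have e : φ (sel (proj σ a) * sel (proj σ b)) = proj σ (vadd a b) := by
      rw [h.φ_mul _ (hselW a).1 _ (hselW b).1, (hsel _).2, (hsel _).2, proj_add hσ]
    have h1 := χeq _ hm
    rw [e] at h1
    simp only [χ] at h1 ⊢
    rw [proj_of_fixed hσ (proj_fixed hσ hi _)] at h1
    rw [h1, εmul _ (hselW a) _ (hselW b)]
  obtain ⟨a, ha⟩ := exists_dual χ χadd
  obtain ⟨j, hj, hja⟩ := h.φ_surj a
  set t₁ : ↥(Subgroup.centralizer ({z} : Set G)) := t * ⟨j, J_cent h hj⟩ with ht₁
  have ht₁c : (t₁ : G) = t * j := rfl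
  have hρ1 : ρ t₁ = σ := by
    rw [ht₁, map_mul, ht, (h.ρ_ker ⟨j, J_cent h hj⟩).2 hj, mul_one]
  have hcomm : ∀ w ∈ W, Commute (t₁ : G) w := by
    intro w hw
    refine mul_inv_eq_iff_eq_mul.1 ?_
    rw [ht₁c, mul_inv_rev, show (t : G) * j * w * (j⁻¹ * (t : G)⁻¹) =
      (t : G) * (j * w * j⁻¹) * (t : G)⁻¹ by group]
    have hwz : Commute w z := z_comm (J_cent h hw.1)
    have e := h.φ_comm j hj w hw.1
    have hd := χeq w hw
    rw [← ha, ← hja] at hd
    rw [hd] at e
    by_cases hp' : (t : G) * w * (t : G)⁻¹ = w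
    · have h0 : ε w = false := by simp [ε, hp']
      simp only [h0, Bool.false_eq_true, if_false, mul_one] at e
      rw [e, mul_inv_cancel_right, hp']
    · have h1 : ε w = true := by simp [ε, hp']
      simp only [h1, if_true] at e
      have hjz : Commute j z := z_comm (J_cent h hj)
      rw [e, mul_assoc w j z, hjz.eq, ← mul_assoc w z j, mul_inv_cancel_right,
        show (t : G) * (w * z) * (t : G)⁻¹ = (t : G) * w * (t : G)⁻¹ * ((t : G) * z * (t : G)⁻¹) by
          group, (htw w hw).resolve_left hp', (z_comm t.2).eq, mul_inv_cancel_right, mul_assoc,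
        h.sq, mul_one]
  refine ⟨t₁, hρ1, hcomm, ?_⟩
  -- the square
  have hsqJ : (t₁ : G) * t₁ ∈ J := (h.ρ_ker (t₁ * t₁)).1 (by rw [map_mul, hρ1, hi])
  have hsqW : (t₁ : G) * t₁ ∈ W := by
    refine ⟨hsqJ, ?_⟩
    have e := h.ρ_φ t₁ _ hsqJ
    rw [hρ1, ← mul_assoc, mul_inv_cancel_right] at e
    exact e.symm
  set c' : G := (c : G) with hc'
  have hcW : ∀ w ∈ W, c'⁻¹ * w * c' ∈ W := by
    intro w hw
    have hmem : c'⁻¹ * w * c' ∈ J := by
      have := h.conj_mem c'⁻¹ (inv_mem c.2) w hw.1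
      rwa [inv_inv] at this
    refine ⟨hmem, ?_⟩
    have e := h.ρ_φ c _ hmem
    rw [show c' * (c'⁻¹ * w * c') * c'⁻¹ = w by group, hc] at e
    apply γ.injective
    have hcm : γ (σ (φ (c'⁻¹ * w * c'))) = σ (γ (φ (c'⁻¹ * w * c'))) :=
      (DFunLike.congr_fun hp.comm _).symm
    rw [hcm, ← e, hw.2]
  set j' : G := (t₁ : G)⁻¹ * (c' * t₁ * c'⁻¹) with hj'
  have hj'J : j' ∈ J := by
    refine (h.ρ_ker (t₁⁻¹ * (c * t₁ * c⁻¹))).1 ?_
    rw [map_mul, map_mul, map_mul, map_inv, map_inv, hρ1, hc, ← hp.comm, mul_inv_cancel_right,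
      inv_mul_cancel]
  have hj'W : j' ∈ W := by
    refine ⟨hj'J, fixed_of_perp hσ hi fun b hb => ?_⟩
    obtain ⟨w, hw, rfl⟩ := h.φ_surj b
    have hwW : w ∈ W := ⟨hw, hb⟩
    refine pol_of_commute h hj'J hw ?_
    have h1 : Commute (c' * t₁ * c'⁻¹) w := by
      have := (hcomm _ (hcW w hwW)).map (MulAut.conj c').toMonoidHom
      simpa [mul_assoc] using this
    exact (hcomm w hwW).inv_left.mul_left h1
  have ec : c' * ((t₁ : G) * t₁) * c'⁻¹ = (t₁ : G) * t₁ * (j' * j') := by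
    have hcm : Commute (t₁ : G) j' := hcomm j' hj'W
    calc c' * ((t₁ : G) * t₁) * c'⁻¹ = ((t₁ : G) * j') * ((t₁ : G) * j') := by rw [hj']; group
      _ = (t₁ : G) * (j' * t₁) * j' := by group
      _ = _ := by rw [← hcm.eq]; group
  have hfix : γ (φ ((t₁ : G) * t₁)) = φ ((t₁ : G) * t₁) := by
    have e := h.ρ_φ c _ hsqJ
    rw [← hc', ec, hc, h.φ_mul _ hsqJ _ (mul_mem hj'J hj'J), h.φ_mul _ hj'J _ hj'J, vadd_self,
      vadd_zero'] at e
    exact e.symm
  exact (h.φ_ker _ hsqJ).1 (hp.free _ hsqW.2 hfix)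

end H39.U6E
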