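import Mathlib

/-!
The sign of a transfer at an element of order dividing four, by counting fixed points and pairs.
-/

set_option autoImplicit false
set_option linter.unusedSectionVars false

namespace H39.U6E

variable {G : Type*} [Group G] {C : Subgroup G} (ϕ : ↥C →* ℤˣ)

/-- The coset is moved back by the power `g ^ n` with sign `-1`. -/
def Odd' (g : G) (n : ℕ) (q : G ⧸ C) : Prop :=
  ∃ hm : q.out⁻¹ * g ^ n * q.out ∈ C, ϕ ⟨_, hm⟩ = -1

theorem out_smul (a : G) (q : G ⧸ C) : ∃ k : ↥C, (a • q).out = a * q.out * k := by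
  have e : a • q = ((a * q.out : G) : G ⧸ C) := by
    conv_lhs => rw [← QuotientGroup.out_eq' q]
    rfl
  rw [e]
  exact QuotientGroup.mk_out_eq_mul C (a * q.out)

theorem smul_eq_iff_mem (a : G) (q : G ⧸ C) : a • q = q ↔ q.out⁻¹ * a * q.out ∈ C := by
  conv_lhs => rw [← QuotientGroup.out_eq' q]
  rw [show a • ((q.out : G) : G ⧸ C) = ((a * q.out : G) : G ⧸ C) from rfl, QuotientGroup.eq]
  rw [show (a * q.out)⁻¹ * q.out = (q.out⁻¹ * a * q.out)⁻¹ by group]
  exact inv_mem_iff

theorem odd'_smul {g a : G} {n : ℕ} (hc : Commute a g) {q : G ⧸ C} (h : Odd' ϕ g n q) :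
    Odd' ϕ g n (a • q) := by
  obtain ⟨hm, hv⟩ := h
  obtain ⟨k, hk⟩ := out_smul a q
  have e : (a • q).out⁻¹ * g ^ n * (a • q).out = (k : G)⁻¹ * (q.out⁻¹ * g ^ n * q.out) * k := by
    rw [hk, mul_inv_rev, mul_inv_rev]
    calc _ = (k : G)⁻¹ * q.out⁻¹ * (a⁻¹ * (g ^ n * a)) * q.out * k := by group
      _ = _ := by rw [← (hc.pow_right n).eq, inv_mul_cancel_left]; group
  refine ⟨by rw [e]; exact mul_mem (mul_mem (inv_mem k.2) hm) k.2, ?_⟩
  have e2 : (⟨(a • q).out⁻¹ * g ^ n * (a • q).out,
      by rw [e]; exact mul_mem (mul_mem (inv_mem k.2) hm) k.2⟩ : ↥C) = k⁻¹ * ⟨_, hm⟩ * k :=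
    Subtype.ext e
  rw [e2, map_mul, map_mul, mul_comm, map_inv, ← mul_assoc, mul_inv_cancel, one_mul, hv]

theorem smul_smul_of_odd' {g : G} {n : ℕ} {q : G ⧸ C} (h : Odd' ϕ g n q) : g ^ n • q = q :=
  (smul_eq_iff_mem _ q).2 h.1

variable [Finite G]

open MulAction Subgroup in
/-- The transfer of an element `g` with `g ^ 4 = 1` is `-1` if the number of odd fixed cosets is
odd and the number of odd cosets in pairs is divisible by four. -/
theorem transfer_eq_neg_one (g : G) (h4 : g ^ 4 = 1)
    (h1 : Odd {q : G ⧸ C | g • q = q ∧ Odd' ϕ g 1 q}.ncard)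
    (h2 : 4 ∣ {q : G ⧸ C | g • q ≠ q ∧ Odd' ϕ g 2 q}.ncard) :
    MonoidHom.transfer ϕ g = -1 := by
  classical
  haveI := Fintype.ofFinite (G ⧸ C)
  haveI : Fintype (Quotient (orbitRel (zpowers g) (G ⧸ C))) := Fintype.ofFinite _
  set R := Quotient (orbitRel (zpowers g) (G ⧸ C))
  let m : R → ℕ := fun O => Function.minimalPeriod (g • ·) O.out
  have hiter : ∀ n (q : G ⧸ C), (fun x : G ⧸ C => g • x)^[n] q = g ^ n • q := fun n q => by
    rw [smul_iterate]
  have hper : ∀ O, g ^ m O • O.out = O.out := fun O => by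
    rw [← hiter]; exact Function.iterate_minimalPeriod
  have hm4 : ∀ O, m O = 1 ∨ m O = 2 ∨ m O = 4 := fun O => by
    have hd : m O ∣ 4 :=
      (show Function.IsPeriodicPt (g • ·) 4 O.out by
        show _ = _
        rw [hiter, h4, one_smul]).minimalPeriod_dvd
    have hle := Nat.le_of_dvd (by norm_num) hd
    interval_cases h : m O <;> simp_all
  set N : Finset R := Finset.univ.filter fun O => Odd' ϕ g (m O) O.out with hN
  -- the product
  have key : ∀ O : R, ϕ ⟨O.out.out⁻¹ * g ^ Function.minimalPeriod (g • ·) O.out * O.out.out,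
      QuotientGroup.out_conj_pow_minimalPeriod_mem C g O.out⟩ = if O ∈ N then -1 else 1 := by
    intro O
    by_cases hO : O ∈ N
    · rw [if_pos hO]
      obtain ⟨hm, hv⟩ := (Finset.mem_filter.1 hO).2
      exact hv
    · rw [if_neg hO]
      refine (Int.units_eq_one_or _).resolve_right fun e => hO ?_
      exact Finset.mem_filter.2 ⟨Finset.mem_univ _, _, e⟩
  rw [MonoidHom.transfer_eq_prod_quotient_orbitRel_zpowers_quot, Finset.prod_congr rfl
    (fun O _ => key O), Finset.prod_ite_mem, Finset.univ_inter, Finset.prod_const]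
  refine Odd.neg_one_pow ?_
  -- no orbit of length four is odd
  have hno4 : ∀ O ∈ N, m O = 1 ∨ m O = 2 := by
    intro O hO
    rcases hm4 O with e | e | e
    · exact Or.inl e
    · exact Or.inr e
    · obtain ⟨hm, hv⟩ := (Finset.mem_filter.1 hO).2
      exfalso
      have e1 : (⟨O.out.out⁻¹ * g ^ m O * O.out.out, hm⟩ : ↥C) = 1 := by
        apply Subtype.ext
        show O.out.out⁻¹ * g ^ m O * O.out.out = 1
        rw [e, h4, mul_one, inv_mul_cancel]
      rw [e1, map_one] at hv
      exact absurd hv (by decide)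
  -- points of an orbit
  have hmem : ∀ q : G ⧸ C, ∃ k : ℕ, q = g ^ k • (Quotient.mk'' q : R).out := by
    intro q
    obtain ⟨⟨a, ha⟩, e⟩ : ∃ a : zpowers g, a • (Quotient.mk'' q : R).out = q := by
      have hr : (orbitRel (zpowers g) (G ⧸ C)) q (Quotient.mk'' q : R).out :=
        Quotient.exact' (Quotient.out_eq' (Quotient.mk'' q : R)).symm
      exact hr
    obtain ⟨k, rfl⟩ := (isOfFinOrder_of_finite g).mem_powers_iff_mem_zpowers.2 ha
    exact ⟨k, e.symm⟩
  have hmk : ∀ (k : ℕ) (O : R), (Quotient.mk'' (g ^ k • O.out) : R) = O := by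
    intro k O
    conv_rhs => rw [← Quotient.out_eq' O]
    exact Quotient.sound' ⟨⟨g ^ k, pow_mem (mem_zpowers g) k⟩, rfl⟩
  -- singletons
  have hN1 : (N.filter fun O => m O = 1).card =
      {q : G ⧸ C | g • q = q ∧ Odd' ϕ g 1 q}.ncard := by
    rw [← Set.ncard_coe_finset]
    refine Set.ncard_congr (fun O _ => O.out) ?_ ?_ ?_
    · intro O hO
      obtain ⟨hO1, hO2⟩ := Finset.mem_filter.1 (Finset.mem_coe.1 hO)
      have := (Finset.mem_filter.1 hO1).2
      rw [hO2] at this
      exact ⟨by simpa [hO2] using hper O, this⟩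
    · intro O O' _ _ e
      exact Quotient.out_inj.1 e
    · rintro q ⟨hq, hodd⟩
      obtain ⟨k, hk⟩ := hmem q
      set O : R := Quotient.mk'' q with hO
      have hfix : g • O.out = O.out := by
        have : g ^ k • (g • O.out) = g ^ k • O.out := by
          rw [smul_smul, ← pow_succ, pow_succ', ← smul_smul, ← hk]; exact hq
        exact MulAction.injective _ this
      have hkk : ∀ n : ℕ, g ^ n • O.out = O.out := fun n => by
        induction n with
        | zero => rw [pow_zero, one_smul]
        | succ n ih => rw [pow_succ, ← smul_smul, hfix, ih]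
      have hout : O.out = q := by rw [hk]; exact (hkk k).symm
      have hm1 : m O = 1 := by
        refine Function.minimalPeriod_eq_one_iff_isFixedPt.2 ?_
        exact hfix
      refine ⟨O, Finset.mem_coe.2 (Finset.mem_filter.2 ⟨Finset.mem_filter.2
        ⟨Finset.mem_univ _, ?_⟩, hm1⟩), hout⟩
      rw [hm1, hout]
      exact hodd
  -- pairs
  have hN2 : 2 * (N.filter fun O => m O = 2).card =
      {q : G ⧸ C | g • q ≠ q ∧ Odd' ϕ g 2 q}.ncard := by
    rw [Set.ncard_eq_toFinset_card' _]
    set S := {q : G ⧸ C | g • q ≠ q ∧ Odd' ϕ g 2 q}.toFinset with hS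
    have hSmem : ∀ q, q ∈ S ↔ g • q ≠ q ∧ Odd' ϕ g 2 q := fun q => by
      rw [hS, Set.mem_toFinset]; rfl
    have hSsmul : ∀ (k : ℕ) q, q ∈ S → g ^ k • q ∈ S := by
      intro k q hq
      obtain ⟨a, b⟩ := (hSmem q).1 hq
      refine (hSmem _).2 ⟨fun e => a (MulAction.injective (g ^ k) ?_),
        odd'_smul ϕ ((Commute.refl g).pow_left k) b⟩
      rwa [smul_smul, ← pow_succ', pow_succ, ← smul_smul] at e
    have hmaps : ∀ q ∈ S, (Quotient.mk'' q : R) ∈ N.filter fun O => m O = 2 := by
      intro q hq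
      obtain ⟨k, hk⟩ := hmem q
      set O : R := Quotient.mk'' q
      have hO : O.out ∈ S := by
        obtain ⟨k', hk'⟩ : ∃ k', g ^ k' • q = O.out := by
          refine ⟨3 * k, ?_⟩
          rw [hk, smul_smul, ← pow_add, show 3 * k + k = 4 * k by ring, pow_mul, h4, one_pow,
            one_smul]
        exact hk' ▸ hSsmul k' q hq
      obtain ⟨hne, hodd⟩ := (hSmem _).1 hO
      have h22 : Function.IsPeriodicPt (g • ·) 2 O.out := by
        show _ = _
        rw [hiter]; exact smul_smul_of_odd' ϕ hodd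
      have hm2 : m O = 2 := by
        have hd : m O ∣ 2 := h22.minimalPeriod_dvd
        rcases (Nat.dvd_prime Nat.prime_two).1 hd with e | e
        · exact absurd (Function.minimalPeriod_eq_one_iff_isFixedPt.1 e) hne
        · exact e
      exact Finset.mem_filter.2 ⟨Finset.mem_filter.2 ⟨Finset.mem_univ _, hm2 ▸ hodd⟩, hm2⟩
    rw [Finset.card_eq_sum_card_fiberwise hmaps, Finset.sum_const_nat (m := 2), mul_comm]
    intro O hO
    obtain ⟨hO1, hO2⟩ := Finset.mem_filter.1 hO
    have hodd := (Finset.mem_filter.1 hO1).2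
    rw [hO2] at hodd
    have hne : g • O.out ≠ O.out := fun e => by
      have := Function.minimalPeriod_eq_one_iff_isFixedPt.2 (show Function.IsFixedPt (g • ·) O.out from e)
      simp only [m] at hO2
      omega
    have hOS : O.out ∈ S := (hSmem _).2 ⟨hne, hodd⟩
    have hgS : g • O.out ∈ S := by simpa using hSsmul 1 _ hOS
    have e2 : g ^ 2 • O.out = O.out := smul_smul_of_odd' ϕ hodd
    have hfib : S.filter (fun q => (Quotient.mk'' q : R) = O) = {O.out, g • O.out} := by
      ext q
      simp only [Finset.mem_filter, Finset.mem_insert, Finset.mem_singleton]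
      constructor
      · rintro ⟨-, hq⟩
        obtain ⟨k, hk⟩ := hmem q
        rw [hq] at hk
        obtain ⟨i, rfl | rfl⟩ := Nat.even_or_odd' k
        · left
          have hev : ∀ i : ℕ, g ^ (2 * i) • O.out = O.out := fun i => by
            induction i with
            | zero => simp
            | succ i ih => rw [Nat.mul_succ, pow_add, ← smul_smul, e2, ih]
          rw [hk, hev]
        · right
          have hev : ∀ i : ℕ, g ^ (2 * i) • O.out = O.out := fun i => by
            induction i with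
            | zero => simp
            | succ i ih => rw [Nat.mul_succ, pow_add, ← smul_smul, e2, ih]
          rw [hk, pow_succ', ← smul_smul, hev]
      · rintro (rfl | rfl)
        · exact ⟨hOS, Quotient.out_eq' O⟩
        · refine ⟨hgS, ?_⟩
          have := hmk 1 O
          rwa [pow_one] at this
    rw [hfib, Finset.card_pair (Ne.symm hne)]
  have hsplit : N.card = (N.filter fun O => m O = 1).card + (N.filter fun O => m O = 2).card := by
    rw [← Finset.card_union_of_disjoint]
    · congr 1
      ext O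
      simp only [Finset.mem_union, Finset.mem_filter]
      constructor
      · exact fun hO => (hno4 O hO).imp (fun e => ⟨hO, e⟩) (fun e => ⟨hO, e⟩)
      · rintro (⟨hO, -⟩ | ⟨hO, -⟩) <;> exact hO
    · exact Finset.disjoint_filter.2 fun O _ e1 e2 => by omega
  obtain ⟨a, ha⟩ := h1
  obtain ⟨b, hb⟩ := h2
  exact ⟨a + b, by omega⟩

end H39.U6E
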