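import Cfsg.Agent.H39.U6E.Lift
import Cfsg.Agent.H39.U6E.Transfer

/-!
A group with an involution centraliser of shape `2^(1+8).U₄(2).2` in which the semilinear
involutions with singular fixed space are not fused to the central one has a subgroup of index two.
-/

set_option autoImplicit false
set_option maxRecDepth 100000
set_option linter.unusedSectionVars false

namespace H39.U6E

open H38.U6C H50.U6C H2.U6E

/-- For each point a point which is far from it and from the first one. -/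
def farPnt (i : Fin 45) : Fin 45 :=
  ![1, 2, 1, 1, 1, 1, 1, 1, 1, 1, 1, 1, 1, 1, 1, 3, 1, 2, 1, 1, 1, 2, 2, 1, 1, 3, 1, 2, 1, 1, 1, 2,
    2, 1, 1, 3, 1, 2, 1, 1, 1, 2, 2, 1, 1] i

theorem tv_rel_bvec :
    (∀ k, tv 0 (tv 15 (tv 16 (tv 20 (tv 24 (bvec k))))) = bvec k) ∧
    (∀ i k, tv i (tv (farPnt i) (tv i (tv (farPnt i) (tv i (tv (farPnt i) (bvec k)))))) = bvec k) ∧
    ∀ i k, tv 0 (tv (farPnt i) (tv 0 (tv (farPnt i) (tv 0 (tv (farPnt i) (bvec k)))))) = bvec k := by
  decide +kernel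

theorem eq_one_of_bvec {g : Equiv.Perm V} (hg : g ∈ isom) (hb : ∀ k, g (bvec k) = bvec k) (a : V) :
    g a = a := by
  refine forall_of_bvec (fun a => g a = a) ?_ ?_ hb a
  · show g 0 = 0
    have := hg.1 0 0
    rwa [H50.U6C.vadd_self, H50.U6C.vadd_self] at this
  · intro x y hx hy
    show g (vadd x y) = vadd x y
    rw [hg.1, hx, hy]

theorem tv_relations :
    (∀ a, tv 0 (tv 15 (tv 16 (tv 20 (tv 24 a)))) = a) ∧
    (∀ i a, tv i (tv (farPnt i) (tv i (tv (farPnt i) (tv i (tv (farPnt i) a))))) = a) ∧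
    ∀ i a, tv 0 (tv (farPnt i) (tv 0 (tv (farPnt i) (tv 0 (tv (farPnt i) a))))) = a := by
  obtain ⟨h1, h2, h3⟩ := tv_rel_bvec
  have m : ∀ i, tv i ∈ isom := tv_mem_isom
  refine ⟨fun a => ?_, fun i a => ?_, fun i a => ?_⟩
  · exact eq_one_of_bvec (g := tv 0 * tv 15 * tv 16 * tv 20 * tv 24)
      (mul_mem (mul_mem (mul_mem (mul_mem (m _) (m _)) (m _)) (m _)) (m _)) h1 a
  · exact eq_one_of_bvec (g := tv i * tv (farPnt i) * tv i * tv (farPnt i) * tv i * tv (farPnt i))
      (mul_mem (mul_mem (mul_mem (mul_mem (mul_mem (m _) (m _)) (m _)) (m _)) (m _)) (m _))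
      (h2 i) a
  · exact eq_one_of_bvec (g := tv 0 * tv (farPnt i) * tv 0 * tv (farPnt i) * tv 0 * tv (farPnt i))
      (mul_mem (mul_mem (mul_mem (mul_mem (mul_mem (m _) (m _)) (m _)) (m _)) (m _)) (m _))
      (h3 i) a

theorem pnt_values : ∀ i : Fin 45, ∀ c : Fin 4, ∃ a : V, herm (pnt i) a = c.val := by decide +kernel

theorem pnt_span : ∀ k : Fin 8, ∃ c₀ c₁ c₂ c₃ : Fin 4,
    bvec k = vadd (vadd (smul4 c₀ (pnt 0)) (smul4 c₁ (pnt 1)))
      (vadd (smul4 c₂ (pnt 3)) (smul4 c₃ (pnt 9))) := by decide +kernel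

theorem pol_true_pair : pol (1 : V) 2 = true := by decide +kernel

variable {G : Type*} [Group G] [Finite G] {z : G} {J H₀ : Subgroup G} {φ : G → V}
  {ρ : ↥(Subgroup.centralizer ({z} : Set G)) →* Equiv.Perm V}

theorem index_two (h : Ctx z J H₀ φ ρ) :
    (H₀.subgroupOf (Subgroup.centralizer ({z} : Set G))).index = 2 := by
  have e := Subgroup.card_mul_index (H₀.subgroupOf (Subgroup.centralizer ({z} : Set G)))
  rw [Nat.card_congr (Subgroup.subgroupOfEquivOfLe h.le_cent).toEquiv, h.card_H₀, h.card_cent,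
    show (2 : ℕ) ^ 10 * 25920 = 2 ^ 9 * 25920 * 2 by norm_num] at e
  exact Nat.eq_of_mul_eq_mul_left (by norm_num) e

theorem mul_mem_iff_H₀ (h : Ctx z J H₀ φ ρ) (a b : ↥(Subgroup.centralizer ({z} : Set G))) :
    ((a * b : ↥(Subgroup.centralizer ({z} : Set G))) : G) ∈ H₀ ↔
      ((a : G) ∈ H₀ ↔ (b : G) ∈ H₀) := by
  have := Subgroup.mul_mem_iff_of_index_two (index_two h) (a := a) (b := b)
  simpa [Subgroup.mem_subgroupOf] using this

/-- The sign of the centraliser modulo the subgroup of index two. -/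
noncomputable def sgnHom (h : Ctx z J H₀ φ ρ) :
    ↥(Subgroup.centralizer ({z} : Set G)) →* ℤˣ := by
  classical
  exact {
    toFun := fun a => if (a : G) ∈ H₀ then 1 else -1
    map_one' := by simp [one_mem]
    map_mul' := fun a b => by
      have hiff := mul_mem_iff_H₀ h a b
      rw [Subgroup.coe_mul] at hiff
      by_cases ha : (a : G) ∈ H₀ <;> by_cases hb : (b : G) ∈ H₀ <;>
        simp only [ha, hb, iff_true, iff_false, not_true_eq_false, not_false_eq_true] at hiff <;>
        simp [ha, hb, hiff] }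

theorem sgnHom_eq_neg_one (h : Ctx z J H₀ φ ρ) (a : ↥(Subgroup.centralizer ({z} : Set G))) :
    sgnHom h a = -1 ↔ (a : G) ∉ H₀ := by
  classical
  by_cases ha : (a : G) ∈ H₀ <;> simp [sgnHom, ha]

theorem sgnHom_z (h : Ctx z J H₀ φ ρ) (hz : z ∈ Subgroup.centralizer ({z} : Set G)) :
    sgnHom h ⟨z, hz⟩ = 1 := by
  classical
  simp [sgnHom, h.J_le h.z_mem]

/-- A coset is fixed by `z` exactly when its conjugate of `z` commutes with `z`. -/
theorem cmt_of_smul {q : G ⧸ Subgroup.centralizer ({z} : Set G)} {a : G} (h : a • q = q) :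
    Commute a (q.out * z * q.out⁻¹) := by
  have := (z_comm ((smul_eq_iff_mem a q).1 h)).map (MulAut.conj q.out).toMonoidHom
  simpa [mul_assoc] using this

theorem eq_base_of_conj {q : G ⧸ Subgroup.centralizer ({z} : Set G)}
    (h : q.out * z * q.out⁻¹ = z) : q.out ∈ Subgroup.centralizer ({z} : Set G) :=
  mem_cent (mul_inv_eq_iff_eq_mul.1 h)

/-- The number of cosets at which `z` is outside the subgroup of index two is divisible by four. -/
theorem four_dvd (h : Ctx z J H₀ φ ρ) (hw : WCJ z J) :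
    4 ∣ {q : G ⧸ Subgroup.centralizer ({z} : Set G) | Odd' (sgnHom h) z 1 q}.ncard := by
  classical
  set S := {q : G ⧸ Subgroup.centralizer ({z} : Set G) | Odd' (sgnHom h) z 1 q} with hS
  letI : MulAction ↥J ↥S :=
    { smul := fun j q => ⟨(j : G) • q.1,
        odd'_smul (sgnHom h) (z_comm (J_cent h j.2)) q.2⟩
      one_smul := fun q => Subtype.ext (one_smul G q.1)
      mul_smul := fun a b q => Subtype.ext (mul_smul (a : G) (b : G) q.1) }
  haveI : Fintype (MulAction.orbitRel.Quotient ↥J ↥S) := Fintype.ofFinite _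
  rw [← Nat.card_coe_set_eq, Nat.card_congr (MulAction.selfEquivSigmaOrbits' (↥J) (↥S)),
    Nat.card_sigma]
  refine Finset.dvd_sum fun ω _ => ?_
  obtain ⟨⟨q, hq⟩, rfl⟩ := Quotient.exists_rep ω
  have horb : Nat.card (MulAction.orbitRel.Quotient.orbit (⟦⟨q, hq⟩⟧ :
      MulAction.orbitRel.Quotient ↥J ↥S)) =
      (MulAction.stabilizer ↥J (⟨q, hq⟩ : ↥S)).index := by
    rw [MulAction.index_stabilizer, Nat.card_coe_set_eq]
    rfl
  rw [horb]
  set M := MulAction.stabilizer ↥J (⟨q, hq⟩ : ↥S) with hM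
  obtain ⟨k, -, hk⟩ := (Nat.dvd_prime_pow Nat.prime_two).1
    (h.card_J ▸ M.index_dvd_card : M.index ∣ 2 ^ 9)
  rw [hk]
  by_contra hnd
  have hk1 : k ≤ 1 := by
    by_contra hc
    exact hnd ((show 4 = 2 ^ 2 by norm_num) ▸ pow_dvd_pow 2 (show 2 ≤ k by omega))
  have hprod : ∀ a b : ↥J, a ∈ M ∨ b ∈ M ∨ a * b ∈ M := by
    intro a b
    interval_cases k
    · exact Or.inl (Subgroup.index_eq_one.1 (by simpa using hk) ▸ Subgroup.mem_top a)
    · have := Subgroup.mul_mem_iff_of_index_two (by simpa using hk) (a := a) (b := b)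
      tauto
  -- the conjugate of `z` at the coset
  set y := q.out * z * q.out⁻¹ with hy
  have hzq : z • q = q := by simpa using smul_smul_of_odd' (sgnHom h) hq
  have hyC : y ∈ Subgroup.centralizer ({z} : Set G) := mem_cent (cmt_of_smul hzq).symm
  have hfix : ∀ a : ↥J, a ∈ M → ρ ⟨y, hyC⟩ (φ a) = φ a := by
    intro a ha
    have e : (a : G) • q = q := congrArg Subtype.val (MulAction.mem_stabilizer_iff.1 ha)
    have hc : y * (a : G) * y⁻¹ = a := by
      rw [← (cmt_of_smul e).eq, mul_inv_cancel_right]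
    have := h.ρ_φ ⟨y, hyC⟩ a a.2
    rw [hc] at this
    exact this.symm
  set f := ρ ⟨y, hyC⟩ with hf
  have hadd : ∀ a b, f (vadd a b) = vadd (f a) (f b) := fun a b => by
    rcases lin_or_anti h ⟨y, hyC⟩ with hl | hl <;> exact hl.add a b
  have hthree : ∀ u v : V, f u = u ∨ f v = v ∨ f (vadd u v) = vadd u v := by
    intro u v
    obtain ⟨a, ha, rfl⟩ := h.φ_surj u
    obtain ⟨b, hb, rfl⟩ := h.φ_surj v
    rcases hprod ⟨a, ha⟩ ⟨b, hb⟩ with e | e | e
    · exact Or.inl (hfix _ e)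
    · exact Or.inr (Or.inl (hfix _ e))
    · refine Or.inr (Or.inr ?_)
      have := hfix _ e
      rwa [show φ ((⟨a, ha⟩ * ⟨b, hb⟩ : ↥J) : G) = vadd (φ a) (φ b) from h.φ_mul a ha b hb] at this
  rcases lin_or_anti h ⟨y, hyC⟩ with hl | hl
  · have h1 : f = 1 := by
      refine Equiv.ext fun a => ?_
      show f a = a
      rcases hthree a (smul4 2 a) with e | e | e
      · exact e
      · rw [lin_smul_two hl] at e
        simpa [smul_two_three] using congrArg (smul4 3) e
      · rw [← smul_three, show f (smul4 3 a) = smul4 3 (f a) from hl.smul 3 a] at e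
        simpa [smul_three_two] using congrArg (smul4 2) e
    have hyJ : y ∈ J := (h.ρ_ker ⟨y, hyC⟩).1 h1
    have hqC := eq_base_of_conj (hw y hyJ (isConj_iff.2 ⟨q.out, rfl⟩))
    obtain ⟨hm, hv⟩ := hq
    rw [sgnHom_eq_neg_one] at hv
    refine hv ?_
    show q.out⁻¹ * z ^ 1 * q.out ∈ H₀
    rw [pow_one, mul_assoc, ← (z_comm hqC).eq, inv_mul_cancel_left]
    exact h.J_le h.z_mem
  · set F := Finset.univ.filter fun a : V => f a = a with hF
    have hsq : F.card * F.card ≤ 256 := by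
      rw [← Finset.card_product]
      refine (Finset.card_le_card_of_injOn (t := (Finset.univ : Finset V))
        (fun p => vadd p.1 (smul4 2 p.2)) (fun _ _ => Finset.mem_univ _) ?_).trans (by simp)
      rintro ⟨p, r⟩ hp ⟨p', r'⟩ hp' e
      simp only [Finset.coe_product, Set.mem_prod, Finset.mem_coe, hF, Finset.mem_filter,
        Finset.mem_univ, true_and] at hp hp'
      have e' : vadd p (smul4 2 r) = vadd p' (smul4 2 r') := e
      have e2 := congrArg f e'
      rw [hadd, hadd, anti_smul_two hl, anti_smul_two hl, hp.1, hp.2, hp'.1, hp'.2, smul_three,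
        smul_three, H50.U6C.vadd_comm r, H50.U6C.vadd_comm r', ← H50.U6C.vadd_assoc, ← H50.U6C.vadd_assoc, e'] at e2
      have er : r = r' := by
        simpa [← H50.U6C.vadd_assoc, H50.U6C.vadd_self, H50.U6C.vadd_comm (0 : V), vadd_zero'] using
          congrArg (vadd (vadd p' (smul4 2 r'))) e2
      subst er
      have ep : p = p' := by
        simpa [H50.U6C.vadd_assoc, H50.U6C.vadd_self, vadd_zero'] using
          congrArg (fun x => vadd x (smul4 2 r)) e'
      rw [ep]
    obtain ⟨u, hu⟩ : ∃ u, f u ≠ u := by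
      by_contra hc
      push_neg at hc
      have := anti_smul_two hl 1
      rw [hc, hc] at this
      exact absurd this (by decide +kernel)
    have hcov : (Finset.univ : Finset V) ⊆ F ∪ F.image fun a => vadd a u := by
      intro v _
      rcases hthree v u with e | e | e
      · exact Finset.mem_union_left _ (Finset.mem_filter.2 ⟨Finset.mem_univ _, e⟩)
      · exact absurd e hu
      · refine Finset.mem_union_right _ (Finset.mem_image.2 ⟨vadd v u,
          Finset.mem_filter.2 ⟨Finset.mem_univ _, e⟩, ?_⟩)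
        rw [H50.U6C.vadd_assoc, H50.U6C.vadd_self, vadd_zero']
    have := (Finset.card_le_card hcov).trans
      ((Finset.card_union_le _ _).trans (Nat.add_le_add_left Finset.card_image_le _))
    simp only [Finset.card_univ, Fintype.card_fin] at this
    nlinarith

/-- The transfer is `-1` on an element over the involution. -/
theorem transfer_lift (h : Ctx z J H₀ φ ρ) (hw : WCJ z J) {σ γ : Equiv.Perm V}
    (hp : OutPair σ γ)
    (hno : ∀ x : ↥(Subgroup.centralizer ({z} : Set G)), ρ x = σ → ¬ IsConj z (x : G))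
    {t₁ : ↥(Subgroup.centralizer ({z} : Set G))} (hρ : ρ t₁ = σ)
    (hW : ∀ j ∈ fixPre h hp.anti, Commute (t₁ : G) j)
    (hsq : (t₁ : G) * t₁ = 1 ∨ (t₁ : G) * t₁ = z) :
    MonoidHom.transfer (sgnHom h) (t₁ : G) = -1 := by
  classical
  set t : G := (t₁ : G) with ht
  have htH : t ∉ H₀ := fun hm => not_lin_anti (hρ ▸ h.lin_of_mem t₁ hm) hp.anti
  have h2sq : t ^ 2 = 1 ∨ t ^ 2 = z := by rwa [sq]
  have h4 : t ^ 4 = 1 := by
    rw [show (4 : ℕ) = 2 * 2 from rfl, pow_mul]
    rcases h2sq with e | e <;> rw [e]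
    · exact one_pow 2
    · rw [sq]; exact h.sq
  refine transfer_eq_neg_one (sgnHom h) t h4 ?_ ?_
  · set P := {q : G ⧸ Subgroup.centralizer ({z} : Set G) |
      t • q = q ∧ Odd' (sgnHom h) t 1 q} with hP
    letI : MulAction ↥(fixPre h hp.anti) ↥P :=
      { smul := fun w q => ⟨(w : G) • q.1, by
          rw [smul_smul, (hW w w.2).eq, ← smul_smul, q.2.1],
          odd'_smul (sgnHom h) (hW w w.2).symm q.2.2⟩
        one_smul := fun q => Subtype.ext (one_smul G q.1)
        mul_smul := fun a b q => Subtype.ext (mul_smul (a : G) (b : G) q.1) }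
    have hpW : IsPGroup 2 ↥(fixPre h hp.anti) :=
      (IsPGroup.of_card h.card_J : IsPGroup 2 ↥J).to_le fun _ hj => hj.1
    have hmod := hpW.card_modEq_card_fixedPoints (↥P)
    have hbase : ∀ q, q ∈ P → (∀ w ∈ fixPre h hp.anti, w • q = q) →
        q = ((1 : G) : G ⧸ Subgroup.centralizer ({z} : Set G)) := by
      intro q hq hfixW
      set y := q.out * z * q.out⁻¹ with hy
      have hyC : y ∈ Subgroup.centralizer ({z} : Set G) :=
        mem_cent (cmt_of_smul (hfixW z (z_mem_fixPre h hp.anti))).symm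
      have hfix : ∀ b, σ b = b → ρ ⟨y, hyC⟩ b = b := by
        intro b hb
        obtain ⟨w, hwJ, rfl⟩ := h.φ_surj b
        have hc : y * w * y⁻¹ = w := by
          rw [← (cmt_of_smul (hfixW w ⟨hwJ, hb⟩)).eq, mul_inv_cancel_right]
        have := h.ρ_φ ⟨y, hyC⟩ w hwJ
        rw [hc] at this
        exact this.symm
      have hyz : IsConj z y := isConj_iff.2 ⟨q.out, rfl⟩
      rcases lin_or_anti h ⟨y, hyC⟩ with hl | hl
      · have hyJ : y ∈ J := (h.ρ_ker ⟨y, hyC⟩).1 (lin_eq_one hp.anti hp.invol hl hfix)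
        have hqC := eq_base_of_conj (hw y hyJ hyz)
        rw [← QuotientGroup.out_eq' q]
        exact QuotientGroup.eq.2 (by rw [mul_one]; exact inv_mem hqC)
      · exact absurd hyz (hno ⟨y, hyC⟩ (anti_eq_sig hp.anti hp.invol hl hfix))
    set q₀ := ((1 : G) : G ⧸ Subgroup.centralizer ({z} : Set G)) with hq₀
    have hout : q₀.out ∈ Subgroup.centralizer ({z} : Set G) := by
      obtain ⟨k, hk⟩ := QuotientGroup.mk_out_eq_mul (Subgroup.centralizer ({z} : Set G)) (1 : G)
      rw [hq₀, hk, one_mul]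
      exact k.2
    have hsm : ∀ a ∈ Subgroup.centralizer ({z} : Set G), a • q₀ = q₀ := fun a ha =>
      (smul_eq_iff_mem a q₀).2 (mul_mem (mul_mem (inv_mem hout) ha) hout)
    have hmem : q₀ ∈ P := by
      refine ⟨hsm t t₁.2, mul_mem (mul_mem (inv_mem hout) ?_) hout, ?_⟩
      · rw [pow_one]; exact t₁.2
      · have e : (⟨q₀.out⁻¹ * t ^ 1 * q₀.out, mul_mem (mul_mem (inv_mem hout)
            (by rw [pow_one]; exact t₁.2)) hout⟩ : ↥(Subgroup.centralizer ({z} : Set G))) =
            ⟨q₀.out, hout⟩⁻¹ * t₁ * ⟨q₀.out, hout⟩ :=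
          Subtype.ext (by simp [ht])
        rw [e, map_mul, map_mul, mul_comm, map_inv, ← mul_assoc, mul_inv_cancel, one_mul,
          sgnHom_eq_neg_one]
        exact htH
    have hone : Nat.card ↥(MulAction.fixedPoints ↥(fixPre h hp.anti) ↥P) = 1 := by
      rw [Nat.card_eq_one_iff_unique]
      refine ⟨⟨fun a b => ?_⟩, ⟨⟨⟨q₀, hmem⟩, fun w =>
        Subtype.ext (hsm _ (J_cent h w.2.1))⟩⟩⟩
      have key : ∀ a : ↥(MulAction.fixedPoints ↥(fixPre h hp.anti) ↥P), a.1.1 = q₀ := fun a =>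
        hbase a.1.1 a.1.2 fun w hw' => congrArg Subtype.val (a.2 ⟨w, hw'⟩)
      exact Subtype.ext (Subtype.ext ((key a).trans (key b).symm))
    rw [hone, Nat.card_coe_set_eq] at hmod
    exact Nat.odd_iff.2 hmod
  · rcases h2sq with e2 | e2
    · have he : {q : G ⧸ Subgroup.centralizer ({z} : Set G) |
          t • q ≠ q ∧ Odd' (sgnHom h) t 2 q} = ∅ := by
        refine Set.eq_empty_of_forall_notMem fun q hq => ?_
        obtain ⟨-, hm, hv⟩ := hq
        rw [show (⟨q.out⁻¹ * t ^ 2 * q.out, hm⟩ : ↥(Subgroup.centralizer ({z} : Set G))) = 1 from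
          Subtype.ext (by simp [e2]), map_one] at hv
        exact absurd hv (by decide)
      rw [he, Set.ncard_empty]
      exact dvd_zero 4
    · have he : {q : G ⧸ Subgroup.centralizer ({z} : Set G) |
          t • q ≠ q ∧ Odd' (sgnHom h) t 2 q} = {q | Odd' (sgnHom h) z 1 q} := by
        ext q
        have hiff : Odd' (sgnHom h) t 2 q ↔ Odd' (sgnHom h) z 1 q := by
          simp only [Odd', e2, pow_one]
        simp only [Set.mem_ofPred_eq, hiff]
        refine ⟨fun hh => hh.2, fun hh => ⟨fun e => ?_, hh⟩⟩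
        have hm := (smul_eq_iff_mem t q).1 e
        obtain ⟨hm2, hv⟩ := hh
        rw [show (⟨q.out⁻¹ * z ^ 1 * q.out, hm2⟩ : ↥(Subgroup.centralizer ({z} : Set G))) =
          ⟨_, hm⟩ * ⟨_, hm⟩ from Subtype.ext (by
            show q.out⁻¹ * z ^ 1 * q.out = _
            show q.out⁻¹ * z ^ 1 * q.out = q.out⁻¹ * t * q.out * (q.out⁻¹ * t * q.out)
            calc q.out⁻¹ * z ^ 1 * q.out = q.out⁻¹ * t ^ 2 * q.out :=
                  congrArg (fun x => q.out⁻¹ * x * q.out) (show z ^ 1 = t ^ 2 by simp [e2])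
              _ = _ := by rw [sq]; group), map_mul, Int.units_mul_self] at hv
        exact absurd hv (by decide)
      rw [he]
      exact four_dvd h hw

/-- A homomorphism to the signs is trivial on the subgroup of index two. -/
theorem hom_trivial (h : Ctx z J H₀ φ ρ)
    (χ : ↥(Subgroup.centralizer ({z} : Set G)) →* ℤˣ)
    (g : ↥(Subgroup.centralizer ({z} : Set G))) (hg : (g : G) ∈ H₀) : χ g = 1 := by
  classical
  have hcomm : ∀ a b, χ (a * b * a⁻¹) = χ b := fun a b => by
    rw [map_mul, map_mul, mul_comm, map_inv, ← mul_assoc, inv_mul_cancel, one_mul]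
  -- on the core
  have hJC := J_cent h
  have hz : χ ⟨z, hJC h.z_mem⟩ = 1 := by
    obtain ⟨a, ha, ea⟩ := h.φ_surj 1
    obtain ⟨b, hb, eb⟩ := h.φ_surj 2
    have e := h.φ_comm a ha b hb
    rw [ea, eb, pol_true_pair, if_pos rfl] at e
    have e' : (⟨a, hJC ha⟩ * ⟨b, hJC hb⟩ : ↥(Subgroup.centralizer ({z} : Set G))) =
        ⟨b, hJC hb⟩ * ⟨a, hJC ha⟩ * ⟨z, hJC h.z_mem⟩ := Subtype.ext e
    have e2 := congrArg χ e'
    rw [map_mul, map_mul, map_mul, mul_comm (χ ⟨b, hJC hb⟩)] at e2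
    exact mul_eq_left.1 e2.symm
  obtain ⟨sel, hsel⟩ : ∃ sel : V → G, ∀ v, sel v ∈ J ∧ φ (sel v) = v :=
    ⟨fun v => Classical.choose (h.φ_surj v), fun v => Classical.choose_spec (h.φ_surj v)⟩
  let β : V → ℤˣ := fun v => χ ⟨sel v, hJC (hsel v).1⟩
  have hβ : ∀ a (ha : a ∈ J), χ ⟨a, hJC ha⟩ = β (φ a) := by
    intro a ha
    rcases φ_eq h ha (hsel (φ a)).1 (hsel _).2.symm with e | e
    · exact congrArg χ (Subtype.ext e)
    · rw [show (⟨a, hJC ha⟩ : ↥(Subgroup.centralizer ({z} : Set G))) =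
        ⟨sel (φ a), hJC (hsel _).1⟩ * ⟨z, hJC h.z_mem⟩ from Subtype.ext e, map_mul, hz, mul_one]
  have βadd : ∀ a b, β (vadd a b) = β a * β b := by
    intro a b
    have e := hβ (sel a * sel b) (mul_mem (hsel a).1 (hsel b).1)
    have ev : φ (sel a * sel b) = vadd a b := by
      rw [h.φ_mul _ (hsel a).1 _ (hsel b).1]
      exact congrArg₂ vadd (hsel a).2 (hsel b).2
    rw [ev] at e
    rw [← e]
    exact map_mul χ ⟨sel a, hJC (hsel a).1⟩ ⟨sel b, hJC (hsel b).1⟩
  have hlift : ∀ r ∈ uGroup, ∃ g : ↥(Subgroup.centralizer ({z} : Set G)),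
      (g : G) ∈ H₀ ∧ ρ g = r := by
    intro r hr
    rw [← h.range₀] at hr
    obtain ⟨g, hg, rfl⟩ := hr
    exact ⟨g, hg, rfl⟩
  have hinv : ∀ (g : ↥(Subgroup.centralizer ({z} : Set G))) v, β (ρ g v) = β v := by
    intro g v
    have hm := h.conj_mem g g.2 (sel v) (hsel v).1
    have e := hβ _ hm
    rw [h.ρ_φ g _ (hsel v).1, (hsel v).2] at e
    rw [← e, show (⟨(g : G) * sel v * (g : G)⁻¹, hJC hm⟩ :
      ↥(Subgroup.centralizer ({z} : Set G))) = g * ⟨sel v, hJC (hsel v).1⟩ * g⁻¹ from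
      Subtype.ext rfl, hcomm]
  have hpnt : ∀ (i : Fin 45) (c : Fin 4), β (smul4 c (pnt i)) = 1 := by
    intro i c
    obtain ⟨v, hv⟩ := pnt_values i c
    obtain ⟨g, -, hg⟩ := hlift _ (Subgroup.subset_closure ⟨i, rfl⟩)
    have e := hinv g v
    rw [hg, tv_apply, βadd, hv] at e
    exact mul_eq_left.1 e
  have hJ1 : ∀ a (ha : a ∈ J), χ ⟨a, hJC ha⟩ = 1 := by
    intro a ha
    rw [hβ a ha]
    refine forall_of_bvec (fun v => β v = 1) ?_ (fun v w hv hw => ?_) (fun k => ?_) _
    · show β 0 = 1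
      have e := βadd 0 0
      rwa [H50.U6C.vadd_self, Int.units_mul_self] at e
    · show β (vadd v w) = 1
      rw [βadd, hv, hw, mul_one]
    · obtain ⟨c₀, c₁, c₂, c₃, e⟩ := pnt_span k
      show β (bvec k) = 1
      rw [e, βadd, βadd, βadd, hpnt, hpnt, hpnt, hpnt]
      simp
  -- on the transvections
  have hwell : ∀ a b, ρ a = ρ b → χ a = χ b := by
    intro a b e
    have hm : ((a⁻¹ * b : ↥(Subgroup.centralizer ({z} : Set G))) : G) ∈ J :=
      (h.ρ_ker _).1 (by rw [map_mul, map_inv, e, inv_mul_cancel])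
    have := hJ1 _ hm
    rw [show (⟨_, hJC hm⟩ : ↥(Subgroup.centralizer ({z} : Set G))) = a⁻¹ * b from Subtype.ext rfl,
      map_mul, map_inv, inv_mul_eq_one] at this
    exact this
  choose L hL hLρ using fun i => hlift (tv i) (Subgroup.subset_closure ⟨i, rfl⟩)
  obtain ⟨h5, h3a, h3b⟩ := tv_relations
  have hbr : ∀ i k, (∀ a, tv i (tv k (tv i (tv k (tv i (tv k a))))) = a) →
      χ (L i) = χ (L k) := by
    intro i k hik
    have e := hwell (L i * L k * L i * L k * L i * L k) 1 (by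
      simp only [map_mul, map_one, hLρ]
      exact Equiv.ext hik)
    simp only [map_mul, map_one] at e
    rcases Int.units_eq_one_or (χ (L i)) with u | u <;>
      rcases Int.units_eq_one_or (χ (L k)) with u' | u' <;> rw [u, u'] at e ⊢ <;>
      exact absurd e (by decide)
  have heq : ∀ i, χ (L i) = χ (L 0) := fun i =>
    (hbr i _ (h3a i)).trans (hbr 0 _ (h3b i)).symm
  have h0 : χ (L 0) = 1 := by
    have e := hwell (L 0 * L 15 * L 16 * L 20 * L 24) 1 (by
      simp only [map_mul, map_one, hLρ]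
      exact Equiv.ext h5)
    simp only [map_mul, map_one, heq 15, heq 16, heq 20, heq 24] at e
    rcases Int.units_eq_one_or (χ (L 0)) with u | u
    · exact u
    · rw [u] at e; exact absurd e (by decide)
  have hgen : ∀ r ∈ uGroup, ∀ g, ρ g = r → χ g = 1 := by
    intro r hr
    induction hr using Subgroup.closure_induction with
    | mem r hr =>
      obtain ⟨i, rfl⟩ := hr
      intro g hg
      rw [hwell g (L i) (by rw [hg, hLρ]), heq, h0]
    | one => intro g hg; rw [hwell g 1 (by rw [hg, map_one]), map_one]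
    | mul a b ha hb iha ihb =>
      intro g hg
      obtain ⟨ga, -, ea⟩ := hlift a ha
      obtain ⟨gb, -, eb⟩ := hlift b hb
      rw [hwell g (ga * gb) (by rw [hg, map_mul, ea, eb]), map_mul, iha ga ea, ihb gb eb, mul_one]
    | inv a ha iha =>
      intro g hg
      have := iha g⁻¹ (by rw [map_inv, hg, inv_inv])
      rwa [map_inv, inv_eq_one] at this
  refine hgen _ ?_ g rfl
  rw [← h.range₀]
  exact ⟨g, hg, rfl⟩

universe u

theorem indexTwo : IndexTwoStmt.{u} := by
  intro G _ _ z J H₀ φ ρ h hw σ γ hp t c ht hc hno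
  classical
  obtain ⟨t₁, hρ, hW, hsq⟩ := exists_lift h hp ht hc
  have hV : MonoidHom.transfer (sgnHom h) (t₁ : G) = -1 := transfer_lift h hw hp hno hρ hW hsq
  set T := MonoidHom.transfer (sgnHom h) with hT
  have htriv := hom_trivial h (T.comp (Subgroup.centralizer ({z} : Set G)).subtype)
  refine ⟨T.ker, ?_, ?_⟩
  · rw [Subgroup.index_ker, show T.range = ⊤ from MonoidHom.range_eq_top.2 fun u => ?_,
      Subgroup.card_top, Nat.card_eq_fintype_card]
    · rfl
    · rcases Int.units_eq_one_or u with rfl | rfl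
      · exact ⟨1, map_one T⟩
      · exact ⟨_, hV⟩
  · refine le_antisymm ?_ fun g hg => ⟨htriv ⟨g, h.le_cent hg⟩ hg, h.le_cent hg⟩
    rintro g ⟨hgk, hgC⟩
    by_contra hn
    have htH : (t₁ : G) ∉ H₀ := fun hm => not_lin_anti (hρ ▸ h.lin_of_mem t₁ hm) hp.anti
    have hm : ((⟨g, hgC⟩ * t₁ : ↥(Subgroup.centralizer ({z} : Set G))) : G) ∈ H₀ :=
      (mul_mem_iff_H₀ h _ _).2 (iff_of_false hn htH)
    have := htriv _ hm
    rw [map_mul] at this
    have e : T g = 1 := hgk
    rw [show (T.comp (Subgroup.centralizer ({z} : Set G)).subtype) ⟨g, hgC⟩ = T g from rfl, e,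
      show (T.comp (Subgroup.centralizer ({z} : Set G)).subtype) t₁ = T (t₁ : G) from rfl, hV,
      one_mul] at this
    exact absurd this (by decide)

end H39.U6E
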